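import Groth.Agent.CurveRigid.Curve
import Groth.Agent.S11992
import Groth.Agent.MonoFibre.RigidityProper
import Groth.Agent.AVLib.AmpleCrit
import Mathlib.AlgebraicGeometry.AlgClosed.Basic

/-!
# Rigidity for maps from products of smooth varieties to abelian varieties
-/

set_option autoImplicit false
set_option backward.isDefEq.respectTransparency false
set_option backward.defeqAttrib.useBackward true
set_option linter.style.haveILetI false

universe u

open CategoryTheory CategoryTheory.Limits AlgebraicGeometry TopologicalSpace MonoidalCategory CartesianMonoidalCategory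
open MonObj GrpObj IsLocalRing

noncomputable section

namespace Groth.Agent.CurveRigid

variable {k : Type u} [Field k]

theorem smooth_prod {V W : Over (Spec (CommRingCat.of k))} [Smooth V.hom] [Smooth W.hom] : Smooth (V ⊗ W).hom := by
  haveI : Smooth (pullback.fst V.hom W.hom) := MorphismProperty.pullback_fst _ _ inferInstance
  exact inferInstanceAs (Smooth (pullback.fst V.hom W.hom ≫ V.hom))

theorem quasiCompact_prod {V W : Over (Spec (CommRingCat.of k))} [QuasiCompact V.hom] [QuasiCompact W.hom] :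
    QuasiCompact (V ⊗ W).hom := by
  haveI : QuasiCompact (pullback.fst V.hom W.hom) := MorphismProperty.pullback_fst _ _ inferInstance
  exact inferInstanceAs (QuasiCompact (pullback.fst V.hom W.hom ≫ V.hom))

theorem isSeparated_prod {V W : Over (Spec (CommRingCat.of k))} [IsSeparated V.hom] [IsSeparated W.hom] :
    IsSeparated (V ⊗ W).hom := by
  haveI : IsSeparated (pullback.fst V.hom W.hom) := MorphismProperty.pullback_fst _ _ inferInstance
  exact inferInstanceAs (IsSeparated (pullback.fst V.hom W.hom ≫ V.hom))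

theorem isIntegral_prod {V W : Over (Spec (CommRingCat.of k))} [LocallyOfFiniteType V.hom] [LocallyOfFiniteType W.hom]
    [GeometricallyIntegral V.hom] [GeometricallyIntegral W.hom] : IsIntegral (V ⊗ W).left := by
  haveI : Subsingleton ↥(Spec (CommRingCat.of k)) := inferInstanceAs (Subsingleton (PrimeSpectrum k))
  haveI : IsIntegral V.left := GeometricallyIntegral.isIntegral_of_subsingleton V.hom
  haveI : IsLocallyNoetherian V.left := LocallyOfFiniteType.isLocallyNoetherian V.hom
  haveI : UniversallyOpen V.hom := inferInstance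
  haveI : UniversallyOpen W.hom := inferInstance
  exact inferInstanceAs (IsIntegral (pullback V.hom W.hom))

variable [IsAlgClosed k] {V W A : Over (Spec (CommRingCat.of k))}

theorem isClosed_pt {Z : Over (Spec (CommRingCat.of k))} [LocallyOfFiniteType Z.hom] (q : 𝟙_ _ ⟶ Z) :
    IsClosed ({q.left (closedPoint k)} : Set Z.left) :=
  ((pointEquivClosedPoint Z.hom) ⟨q.left, Over.w q⟩).2

theorem eq_one_of_pt {Z : Over (Spec (CommRingCat.of k))} [GrpObj Z] [LocallyOfFiniteType Z.hom] {q : 𝟙_ _ ⟶ Z}
    (h : q.left (closedPoint k) = η[Z].left (closedPoint k)) : q = 1 := by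
  rw [Hom.one_def, toUnit_unique (toUnit _) (𝟙 _), Category.id_comp]
  exact AVLib.point_ext h

/-- A map from a product of smooth varieties to an abelian variety which is trivial on two axes is trivial. -/
theorem eq_one_of_axes [Smooth V.hom] [IsSeparated V.hom] [QuasiCompact V.hom] [IsIntegral V.left]
    [Smooth W.hom] [IsSeparated W.hom] [QuasiCompact W.hom] [IsIntegral W.left]
    [GrpObj A] [IsProper A.hom] [GeometricallyIntegral A.hom]
    (v₀ : 𝟙_ _ ⟶ V) (w₀ : 𝟙_ _ ⟶ W) (h : V ⊗ W ⟶ A)
    (h₀ : lift (𝟙 V) (toUnit V ≫ w₀) ≫ h = 1) (h₁ : lift (toUnit W ≫ v₀) (𝟙 W) ≫ h = 1) : h = 1 := by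
  classical
  haveI : GeometricallyIntegral V.hom := AVLib.geometricallyIntegral_of_isIntegral V.hom
  haveI : GeometricallyIntegral W.hom := AVLib.geometricallyIntegral_of_isIntegral W.hom
  -- constancy along `W`
  have hpts : ∀ v : 𝟙_ _ ⟶ V, ∀ w : 𝟙_ _ ⟶ W, lift v w ≫ h = 1 := by
    intro v w
    let g : W ⟶ A := lift (toUnit W ≫ v) (𝟙 W) ≫ h
    have hg : ∀ q : 𝟙_ _ ⟶ W, q ≫ g = lift v q ≫ h := fun q => by
      simp only [g]
      rw [← Category.assoc, comp_lift, Category.comp_id, ← Category.assoc,
        toUnit_unique (q ≫ toUnit W) (𝟙 _), Category.id_comp]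
    have hgw₀ : w₀ ≫ g = 1 := by
      have := congrArg (v ≫ ·) h₀
      simp only [MonObj.comp_one] at this
      rw [← Category.assoc, comp_lift, Category.comp_id, ← Category.assoc,
        toUnit_unique (v ≫ toUnit V) (𝟙 _), Category.id_comp] at this
      rw [hg, this]
    set e := η[A].left (closedPoint k)
    have he : (1 : 𝟙_ _ ⟶ A).left (closedPoint k) = e := by
      rw [Hom.one_def, toUnit_unique (toUnit _) (𝟙 _), Category.id_comp]
    have hF : IsClosed (g.left ⁻¹' {e}) := (isClosed_pt η[A]).preimage g.left.continuous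
    have hw₀ : w₀.left (closedPoint k) ∈ g.left ⁻¹' {e} := by
      show g.left (w₀.left (closedPoint k)) = e
      rw [← Scheme.Hom.comp_apply, ← Over.comp_left, hgw₀, he]
    by_cases hne : g.left ⁻¹' {e} = Set.univ
    · rw [← hg]
      refine eq_one_of_pt ?_
      have h2 : w.left (closedPoint k) ∈ g.left ⁻¹' {e} := hne ▸ Set.mem_univ _
      exact (Scheme.Hom.comp_apply _ _ _).trans h2
    exfalso
    letI : W.left.Over (Spec (CommRingCat.of k)) := ⟨W.hom⟩
    haveI : LocallyOfFiniteType (W.left ↘ Spec (CommRingCat.of k)) := inferInstanceAs (LocallyOfFiniteType W.hom)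
    obtain ⟨C, hCo, hCi, hCp, hCs, U, φ, c, z, hφ, hcl, hcw, hz⟩ :=
      exists_curve (k := k) _ (isClosed_pt w₀) _ hF hw₀ hne
    letI := hCo
    haveI := hCi
    let X : Over (Spec (CommRingCat.of k)) := Over.mk (C ↘ Spec (CommRingCat.of k))
    haveI : IsProper X.hom := hCp
    haveI : Smooth X.hom := hCs
    haveI : IsIntegral X.left := hCi
    haveI : GeometricallyIntegral X.hom := AVLib.geometricallyIntegral_of_isIntegral X.hom
    let XU : Over (Spec (CommRingCat.of k)) := Over.mk (U.ι ≫ X.hom)
    let ιU : XU ⟶ X := Over.homMk U.ι rfl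
    let φ' : XU ⟶ W := Over.homMk φ hφ
    let T := V ⊗ X
    let Uo : T.left.Opens := (snd V X).left ⁻¹ᵁ U
    let TU : Over (Spec (CommRingCat.of k)) := Over.mk (Uo.ι ≫ T.hom)
    let ιT : TU ⟶ T := Over.homMk Uo.ι rfl
    let pU : TU ⟶ XU := Over.homMk ((snd V X).left ∣_ U) (by
      show ((snd V X).left ∣_ U) ≫ U.ι ≫ X.hom = Uo.ι ≫ T.hom
      rw [morphismRestrict_ι_assoc, Over.w (snd V X)])
    have hpU : pU ≫ ιU = ιT ≫ snd V X := Over.OverMorphism.ext (morphismRestrict_ι _ _)
    let g₀ : TU ⟶ A := lift (ιT ≫ fst V X) (pU ≫ φ') ≫ h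
    haveI := smooth_prod (V := V) (W := X)
    haveI := quasiCompact_prod (V := V) (W := X)
    haveI := isSeparated_prod (V := V) (W := X)
    haveI := isIntegral_prod (V := V) (W := X)
    haveI : GeometricallyIntegral T.hom := AVLib.geometricallyIntegral_of_isIntegral T.hom
    obtain ⟨c', hc'⟩ := AVLib.exists_ratPt (Z := X) (z := c.1) hcl
    obtain ⟨c'', hc''⟩ : ∃ c'' : 𝟙_ _ ⟶ XU, c'' ≫ ιU = c' := by
      refine ⟨Over.homMk (IsOpenImmersion.lift U.ι c'.left (by
        rintro _ ⟨a, rfl⟩
        haveI : Subsingleton ↥(Spec (CommRingCat.of k)) := inferInstanceAs (Subsingleton (PrimeSpectrum k))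
        refine ⟨⟨c'.left a, ?_⟩, rfl⟩
        show c'.left a ∈ U
        rw [Subsingleton.elim (α := ↥(Spec (CommRingCat.of k))) a (closedPoint k), hc']
        exact c.2)) ?_, ?_⟩
      · show IsOpenImmersion.lift _ _ _ ≫ U.ι ≫ X.hom = _
        rw [IsOpenImmersion.lift_fac_assoc, Over.w c']
      · exact Over.OverMorphism.ext (IsOpenImmersion.lift_fac _ _ _)
    have hc''φ : c'' ≫ φ' = w₀ := by
      refine AVLib.point_ext ?_
      have h2 : c''.left (closedPoint k) = c := by
        apply Subtype.ext
        show U.ι (c''.left (closedPoint k)) = c.1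
        rw [← hc', ← hc'']
        rfl
      show φ (c''.left (closedPoint k)) = _
      rw [h2, hcw]
    have hUo : (Uo : Set T.left).Nonempty :=
      ⟨(lift v₀ c').left (closedPoint k), by
        show (snd V X).left ((lift v₀ c').left (closedPoint k)) ∈ U
        rw [← Scheme.Hom.comp_apply, ← Over.comp_left, lift_snd, hc']
        exact c.2⟩
    obtain ⟨hb, hbs, hbU⟩ := Groth.Agent.S11992.result k T.left T.hom A Uo hUo g₀.left (Over.w g₀)
    let hbar : T ⟶ A := Over.homMk hb hbs
    have key : ∀ {S : Over (Spec (CommRingCat.of k))} (a : S ⟶ V) (b : S ⟶ XU),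
        lift a (b ≫ ιU) ≫ hbar = lift a (b ≫ φ') ≫ h := by
      intro S a b
      obtain ⟨s, hs⟩ : ∃ s : S ⟶ TU, s ≫ ιT = lift a (b ≫ ιU) := by
        refine ⟨Over.homMk (IsOpenImmersion.lift Uo.ι (lift a (b ≫ ιU)).left (by
          rintro _ ⟨y, rfl⟩
          refine ⟨⟨(lift a (b ≫ ιU)).left y, ?_⟩, rfl⟩
          show (snd V X).left ((lift a (b ≫ ιU)).left y) ∈ U
          rw [← Scheme.Hom.comp_apply, ← Over.comp_left, lift_snd]
          exact (b.left y).2)) ?_, ?_⟩
        · show IsOpenImmersion.lift _ _ _ ≫ Uo.ι ≫ T.hom = _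
          rw [IsOpenImmersion.lift_fac_assoc, Over.w]
        · exact Over.OverMorphism.ext (IsOpenImmersion.lift_fac _ _ _)
      haveI : Mono ιU := Over.mono_of_mono_left ιU
      have hsb : s ≫ pU = b := by
        rw [← cancel_mono ιU, Category.assoc, hpU, ← Category.assoc, hs, lift_snd]
      have h2 : ιT ≫ hbar = g₀ := Over.OverMorphism.ext hbU
      rw [← hs, Category.assoc, h2]
      simp only [g₀]
      rw [← Category.assoc, comp_lift, ← Category.assoc, ← Category.assoc, hs, lift_fst, hsb]
    -- rigidity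
    let f' : X ⊗ V ⟶ A := lift (snd X V) (fst X V) ≫ hbar
    have hV : lift (𝟙 X) (toUnit X ≫ v₀) ≫ f' = toUnit X ≫ η[A] := by
      have e1 : lift (𝟙 X) (toUnit X ≫ v₀) ≫ f' = lift (toUnit X ≫ v₀) (𝟙 X) ≫ hbar := by
        simp only [f']
        rw [← Category.assoc, comp_lift, lift_fst, lift_snd]
      rw [e1]
      haveI : IsDominant U.ι := ⟨by
        rw [DenseRange, Scheme.Opens.range_ι]
        exact U.isOpen.dense ⟨c.1, c.2⟩⟩
      haveI : IsDominant ιU.left := ‹IsDominant U.ι›
      haveI : IsReduced X.left := inferInstance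
      refine Over.OverMorphism.ext (ext_of_isDominant_of_isSeparated A.hom ?_ ιU.left ?_)
      · exact (Over.w _).trans (Over.w _).symm
      · rw [← Over.comp_left, ← Over.comp_left]
        refine congrArg CommaMorphism.left ?_
        have h3 := congrArg (φ' ≫ ·) h₁
        simp only [MonObj.comp_one] at h3
        rw [← Category.assoc, comp_lift, Category.comp_id, ← Category.assoc,
          toUnit_unique (φ' ≫ toUnit W) (toUnit XU)] at h3
        rw [← Category.assoc, comp_lift, Category.comp_id, ← Category.assoc,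
          toUnit_unique (ιU ≫ toUnit X) (toUnit XU), ← Category.assoc,
          toUnit_unique (ιU ≫ toUnit X) (toUnit XU), ← Hom.one_def]
        have h4 := key (toUnit XU ≫ v₀) (𝟙 XU)
        rw [Category.id_comp, Category.id_comp] at h4
        exact h4.trans h3
    have hrig := MonoFibre.Rigidity.eq_const_of_ratPt f' c' v₀ η[A] hV
    have hc0 : lift (toUnit V ≫ c') (𝟙 V) ≫ f' = 1 := by
      have e1 : lift (toUnit V ≫ c') (𝟙 V) ≫ f' = lift (𝟙 V) (toUnit V ≫ c') ≫ hbar := by
        simp only [f']
        rw [← Category.assoc, comp_lift, lift_fst, lift_snd]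
      rw [e1, ← hc'', ← Category.assoc, key, Category.assoc, hc''φ, h₀]
    rw [hc0, MonObj.comp_one] at hrig
    have hg1 : φ' ≫ g = 1 := by
      have h5 : φ' ≫ g = lift (toUnit XU ≫ v) φ' ≫ h := by
        simp only [g]
        rw [← Category.assoc, comp_lift, Category.comp_id, ← Category.assoc,
          toUnit_unique (φ' ≫ toUnit W) (toUnit XU)]
      have h6 := key (toUnit XU ≫ v) (𝟙 XU)
      rw [Category.id_comp, Category.id_comp] at h6
      rw [h5, ← h6]
      have : lift (toUnit XU ≫ v) ιU ≫ hbar = lift ιU (toUnit XU ≫ v) ≫ f' := by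
        simp only [f']
        rw [← Category.assoc, comp_lift, lift_fst, lift_snd]
      rw [this, hrig, MonObj.comp_one]
    refine hz ?_
    have h7 := congr(($hg1).left z)
    have h8 : g.left (φ z) = (1 : XU ⟶ A).left z := (Scheme.Hom.comp_apply φ g.left z).symm.trans h7
    show g.left (φ z) = e
    rw [h8, Hom.one_def, Over.comp_left, Scheme.Hom.comp_apply]
    haveI : Subsingleton ↥(Spec (CommRingCat.of k)) := inferInstanceAs (Subsingleton (PrimeSpectrum k))
    exact congrArg _ (Subsingleton.elim (α := ↥(Spec (CommRingCat.of k))) _ _)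
  haveI := smooth_prod (V := V) (W := W)
  haveI := isIntegral_prod (V := V) (W := W)
  refine Over.OverMorphism.ext ?_
  haveI : LocallyOfFiniteType (h.left ≫ A.hom) := by rw [Over.w h]; infer_instance
  refine ext_of_apply_eq A.hom Set.univ isClosed_univ.isLocallyClosed dense_univ (fun x _ hx => ?_) ?_
  · obtain ⟨q, hq⟩ := AVLib.exists_ratPt (Z := V ⊗ W) hx
    have h9 : q ≫ h = q ≫ (1 : V ⊗ W ⟶ A) := by
      rw [MonObj.comp_one, ← hpts (q ≫ fst V W) (q ≫ snd V W), lift_comp_fst_snd]
    have h10 := congr(($h9).left (closedPoint k))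
    rw [← hq]
    exact h10
  · rw [Over.w, Over.w]

end Groth.Agent.CurveRigid
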