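import Groth.Agent.CurveRigid.Descent
import Mathlib.AlgebraicGeometry.Morphisms.Smooth

/-!
# Rigidity for maps from products of arbitrary varieties to abelian varieties
-/

set_option autoImplicit false
set_option backward.isDefEq.respectTransparency false
set_option linter.style.haveILetI false

universe u

open CategoryTheory CategoryTheory.Limits AlgebraicGeometry MonoidalCategory CartesianMonoidalCategory
open MonObj GrpObj

noncomputable section

namespace Groth.Agent.CurveRigid

/-- A map from a product of varieties over an algebraically closed field to an abelian variety which is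
trivial on two axes is trivial. -/
theorem eq_one_of_axes_variety {k : Type u} [Field k] [IsAlgClosed k] {V W A : Over (Spec (CommRingCat.of k))}
    [LocallyOfFiniteType V.hom] [QuasiCompact V.hom] [IsSeparated V.hom] [IsIntegral V.left]
    [LocallyOfFiniteType W.hom] [QuasiCompact W.hom] [IsSeparated W.hom] [IsIntegral W.left]
    [GrpObj A] [IsProper A.hom] [GeometricallyIntegral A.hom]
    (v₀ : 𝟙_ _ ⟶ V) (w₀ : 𝟙_ _ ⟶ W) (h : V ⊗ W ⟶ A)
    (h₀ : lift (𝟙 V) (toUnit V ≫ w₀) ≫ h = 1) (h₁ : lift (toUnit W ≫ v₀) (𝟙 W) ≫ h = 1) : h = 1 := by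
  haveI := isCommMonObj_of_isProper_of_geometricallyIntegral A
  haveI : Subsingleton ↥(Spec (CommRingCat.of k)) := inferInstanceAs (Subsingleton (PrimeSpectrum k))
  have open_smooth : ∀ (Z : Over (Spec (CommRingCat.of k))) [LocallyOfFiniteType Z.hom] [QuasiCompact Z.hom]
      [IsSeparated Z.hom] [IsIntegral Z.left], ∃ (Zs : Over (Spec (CommRingCat.of k))) (j : Zs ⟶ Z)
        (_ : 𝟙_ _ ⟶ Zs), IsOpenImmersion j.left ∧ Smooth Zs.hom ∧ QuasiCompact Zs.hom ∧ IsSeparated Zs.hom ∧
          GeometricallyIntegral Zs.hom ∧ DenseRange j.left := by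
    intro Z _ _ _ _
    haveI : IsLocallyNoetherian (Spec (CommRingCat.of k)) := inferInstance
    haveI : LocallyOfFinitePresentation Z.hom := inferInstance
    let U := Z.hom.smoothLocus
    have hη : genericPoint Z.left ∈ U := Z.hom.genericPoint_mem_smoothLocus_of_perfectField
    let Zs : Over (Spec (CommRingCat.of k)) := Over.mk (U.ι ≫ Z.hom)
    haveI : Smooth Zs.hom := by
      show Smooth (U.ι ≫ Z.hom)
      rw [← Scheme.Hom.smoothLocus_eq_top_iff, ← Scheme.Hom.preimage_smoothLocus_eq]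
      ext x
      exact ⟨fun _ => trivial, fun _ => x.2⟩
    haveI : IsLocallyNoetherian Z.left := LocallyOfFiniteType.isLocallyNoetherian Z.hom
    haveI : QuasiCompact Zs.hom := inferInstanceAs (QuasiCompact (U.ι ≫ Z.hom))
    haveI : IsSeparated Zs.hom := inferInstanceAs (IsSeparated (U.ι ≫ Z.hom))
    haveI : Nonempty U := ⟨⟨_, hη⟩⟩
    haveI : IsIntegral Zs.left := inferInstanceAs (IsIntegral U.toScheme)
    haveI := LocallyOfFiniteType.jacobsonSpace Zs.hom
    obtain ⟨z, -, hz⟩ := nonempty_inter_closedPoints (X := Zs.left) (Z := Set.univ)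
      Set.univ_nonempty isClosed_univ.isLocallyClosed
    obtain ⟨p, -⟩ := AVLib.exists_ratPt (Z := Zs) hz
    refine ⟨Zs, Over.homMk U.ι rfl, p, inferInstanceAs (IsOpenImmersion U.ι), inferInstance, inferInstance,
      inferInstance, AVLib.geometricallyIntegral_of_isIntegral Zs.hom, ?_⟩
    show DenseRange U.ι
    rw [DenseRange, Scheme.Opens.range_ι]
    exact U.isOpen.dense ⟨_, hη⟩
  obtain ⟨Vs, jV, p, hjV, hVs, hVq, hVp, hVg, hVd⟩ := open_smooth V
  obtain ⟨Ws, jW, q, hjW, hWs, hWq, hWp, hWg, hWd⟩ := open_smooth W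
  haveI := hjV; haveI := hVs; haveI := hVq; haveI := hVp; haveI := hVg
  haveI := hjW; haveI := hWs; haveI := hWq; haveI := hWp; haveI := hWg
  let v₁ := p ≫ jV
  let w₁ := q ≫ jW
  let c : 𝟙_ _ ⟶ A := lift v₁ w₁ ≫ h
  let L : V ⊗ W ⟶ A := h * (toUnit _ ≫ c)
  let R : V ⊗ W ⟶ A := (snd V W ≫ lift (toUnit W ≫ v₁) (𝟙 W) ≫ h) * (fst V W ≫ lift (𝟙 V) (toUnit V ≫ w₁) ≫ h)
  have hLR : L = R := by
    have hs : (jV ⊗ₘ jW) ≫ L = (jV ⊗ₘ jW) ≫ R := by
      have hd := decomp p q ((jV ⊗ₘ jW) ≫ h)
      letI : CommGroup (Vs ⊗ Ws ⟶ A) := Hom.commGroup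
      simp only [← Category.assoc, lift_map] at hd
      simp only [L, R, MonObj.comp_mul]
      rw [← Category.assoc _ (toUnit (V ⊗ W)), toUnit_unique ((jV ⊗ₘ jW) ≫ toUnit (V ⊗ W)) (toUnit (Vs ⊗ Ws)),
        ← Category.assoc _ (snd V W), tensorHom_snd, ← Category.assoc _ (fst V W), tensorHom_fst]
      simp only [← Category.assoc, comp_lift, Category.comp_id]
      rw [hd]
      simp only [toUnit_unique ((snd Vs Ws ≫ jW) ≫ toUnit W) (toUnit (Vs ⊗ Ws)),
        toUnit_unique ((fst Vs Ws ≫ jV) ≫ toUnit V) (toUnit (Vs ⊗ Ws)),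
        toUnit_unique (snd Vs Ws ≫ toUnit Ws) (toUnit (Vs ⊗ Ws)),
        toUnit_unique (fst Vs Ws ≫ toUnit Vs) (toUnit (Vs ⊗ Ws)), c, v₁, w₁,
        Category.assoc, Category.id_comp, comp_lift_assoc, Category.comp_id]
      simp only [← Category.assoc, comp_lift, Category.comp_id,
        toUnit_unique (snd Vs Ws ≫ toUnit Ws) (toUnit (Vs ⊗ Ws)),
        toUnit_unique (fst Vs Ws ≫ toUnit Vs) (toUnit (Vs ⊗ Ws))]
      rw [_root_.mul_assoc _ _ (lift (fst Vs Ws ≫ jV) _ ≫ h), inv_mul_cancel_comm]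
    haveI : GeometricallyIntegral V.hom := AVLib.geometricallyIntegral_of_isIntegral V.hom
    haveI : GeometricallyIntegral W.hom := AVLib.geometricallyIntegral_of_isIntegral W.hom
    haveI := isIntegral_prod (V := V) (W := W)
    haveI : IsDominant (jV ⊗ₘ jW).left := by
      haveI : IsOpenImmersion (jV ⊗ₘ jW).left := by
        rw [Over.tensorHom_left]
        infer_instance
      refine ⟨?_⟩
      have hne : (Set.range (jV ⊗ₘ jW).left).Nonempty :=
        ⟨_, ⟨(lift p q).left (IsLocalRing.closedPoint k), rfl⟩⟩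
      exact (jV ⊗ₘ jW).left.isOpenEmbedding.isOpen_range.dense hne
    exact Over.OverMorphism.ext (ext_of_isDominant_of_isSeparated A.hom ((Over.w L).trans (Over.w R).symm)
      (jV ⊗ₘ jW).left (congrArg CommaMorphism.left hs))
  -- evaluation on the axes
  have hT : ∀ {X : Over (Spec (CommRingCat.of k))} (a : X ⟶ 𝟙_ _), a = toUnit X := fun a => toUnit_unique _ _
  have e₀ : lift v₀ w₁ ≫ h = 1 := by
    have := congrArg (w₁ ≫ ·) h₁
    simp only [MonObj.comp_one, ← Category.assoc, comp_lift, Category.comp_id] at this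
    rwa [toUnit_unique (w₁ ≫ toUnit W) (𝟙 _), Category.id_comp] at this
  have e₁ : lift v₁ w₀ ≫ h = 1 := by
    have := congrArg (v₁ ≫ ·) h₀
    simp only [MonObj.comp_one, ← Category.assoc, comp_lift, Category.comp_id] at this
    rwa [toUnit_unique (v₁ ≫ toUnit V) (𝟙 _), Category.id_comp] at this
  have hB : lift (toUnit W ≫ v₁) (𝟙 W) ≫ h = toUnit W ≫ c := by
    have := congrArg (lift (toUnit W ≫ v₀) (𝟙 W) ≫ ·) hLR
    simp only [L, R, MonObj.comp_mul, lift_snd_assoc, lift_fst_assoc, Category.id_comp, h₁,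
      _root_.one_mul] at this
    simp only [← Category.assoc, comp_lift, Category.comp_id] at this
    simp only [toUnit_unique (lift (toUnit W ≫ v₀) (𝟙 W) ≫ toUnit (V ⊗ W)) (toUnit W),
      toUnit_unique ((toUnit W ≫ v₀) ≫ toUnit V) (toUnit W)] at this
    rw [show lift (toUnit W ≫ v₀) (toUnit W ≫ w₁) ≫ h = 1 by
      rw [← comp_lift, Category.assoc, e₀, MonObj.comp_one], _root_.mul_one] at this
    exact this.symm
  have hA : lift (𝟙 V) (toUnit V ≫ w₁) ≫ h = toUnit V ≫ c := by
    have := congrArg (lift (𝟙 V) (toUnit V ≫ w₀) ≫ ·) hLR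
    simp only [L, R, MonObj.comp_mul, lift_snd_assoc, lift_fst_assoc, Category.id_comp, h₀,
      _root_.one_mul] at this
    simp only [← Category.assoc, comp_lift, Category.comp_id] at this
    simp only [toUnit_unique (lift (𝟙 V) (toUnit V ≫ w₀) ≫ toUnit (V ⊗ W)) (toUnit V),
      toUnit_unique ((toUnit V ≫ w₀) ≫ toUnit W) (toUnit V)] at this
    rw [show lift (toUnit V ≫ v₁) (toUnit V ≫ w₀) ≫ h = 1 by
      rw [← comp_lift, Category.assoc, e₁, MonObj.comp_one], _root_.one_mul] at this
    exact this.symm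
  have hh : h = toUnit (V ⊗ W) ≫ c := by
    have := hLR
    simp only [L, R, hA, hB, ← Category.assoc] at this
    rw [toUnit_unique (snd V W ≫ toUnit W) (toUnit (V ⊗ W)),
      toUnit_unique (fst V W ≫ toUnit V) (toUnit (V ⊗ W))] at this
    exact mul_right_cancel this
  have hc1 : c = 1 := by
    rw [← e₀]
    conv_rhs => rw [hh, ← Category.assoc, toUnit_unique (lift v₀ w₁ ≫ toUnit _) (𝟙 _), Category.id_comp]
  rw [hh, hc1, MonObj.comp_one]

/-- The same over an arbitrary field, for geometrically integral varieties. -/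
theorem eq_one_of_axes_variety' {k : Type u} [Field k] {V W A : Over (Spec (CommRingCat.of k))}
    [LocallyOfFiniteType V.hom] [QuasiCompact V.hom] [IsSeparated V.hom] [GeometricallyIntegral V.hom]
    [LocallyOfFiniteType W.hom] [QuasiCompact W.hom] [IsSeparated W.hom] [GeometricallyIntegral W.hom]
    [GrpObj A] [IsProper A.hom] [GeometricallyIntegral A.hom]
    (v₀ : 𝟙_ _ ⟶ V) (w₀ : 𝟙_ _ ⟶ W) (h : V ⊗ W ⟶ A)
    (h₀ : lift (𝟙 V) (toUnit V ≫ w₀) ≫ h = 1) (h₁ : lift (toUnit W ≫ v₀) (𝟙 W) ≫ h = 1) : h = 1 := by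
  let K := AlgebraicClosure k
  let j : Spec (CommRingCat.of K) ⟶ Spec (CommRingCat.of k) := jbar k
  haveI : QuasiCompact j := by unfold j jbar; infer_instance
  haveI : Subsingleton ↥(Spec (CommRingCat.of k)) := inferInstanceAs (Subsingleton (PrimeSpectrum k))
  haveI : Subsingleton ↥(Spec (CommRingCat.of K)) := inferInstanceAs (Subsingleton (PrimeSpectrum K))
  haveI : Flat j := (HasRingHomProperty.Spec_iff (P := @Flat)).2 (RingHom.flat_algebraMap_iff.2 inferInstance)
  haveI : Surjective j := ⟨fun y => ⟨IsLocalRing.closedPoint K, Subsingleton.elim _ _⟩⟩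
  let F := Over.pullback j
  letI : GrpObj (F.obj A) := Functor.grpObjObj (F := F) (G := A)
  haveI : IsProper (F.obj A).hom := inferInstanceAs (IsProper (pullback.snd A.hom j))
  haveI : GeometricallyIntegral (F.obj A).hom := inferInstanceAs (GeometricallyIntegral (pullback.snd A.hom j))
  haveI : LocallyOfFiniteType (F.obj V).hom := inferInstanceAs (LocallyOfFiniteType (pullback.snd V.hom j))
  haveI : IsSeparated (F.obj V).hom := inferInstanceAs (IsSeparated (pullback.snd V.hom j))
  haveI : QuasiCompact (F.obj V).hom := inferInstanceAs (QuasiCompact (pullback.snd V.hom j))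
  haveI : LocallyOfFiniteType (F.obj W).hom := inferInstanceAs (LocallyOfFiniteType (pullback.snd W.hom j))
  haveI : IsSeparated (F.obj W).hom := inferInstanceAs (IsSeparated (pullback.snd W.hom j))
  haveI : QuasiCompact (F.obj W).hom := inferInstanceAs (QuasiCompact (pullback.snd W.hom j))
  haveI : GeometricallyIntegral (F.obj V).hom := inferInstanceAs (GeometricallyIntegral (pullback.snd V.hom j))
  haveI : GeometricallyIntegral (F.obj W).hom := inferInstanceAs (GeometricallyIntegral (pullback.snd W.hom j))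
  haveI : IsIntegral (F.obj V).left := GeometricallyIntegral.isIntegral_of_subsingleton (F.obj V).hom
  haveI : IsIntegral (F.obj W).left := GeometricallyIntegral.isIntegral_of_subsingleton (F.obj W).hom
  have e : Functor.LaxMonoidal.μ F V W ≫ F.map h = 1 := by
    refine eq_one_of_axes_variety (Functor.LaxMonoidal.ε F ≫ F.map v₀) (Functor.LaxMonoidal.ε F ≫ F.map w₀) _ ?_ ?_
    · rw [← Category.assoc (toUnit _), Functor.Monoidal.toUnit_ε, ← F.map_comp, ← F.map_id, ← Category.assoc,
        Functor.Monoidal.lift_μ, ← F.map_comp, h₀, Functor.map_one]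
    · rw [← Category.assoc (toUnit _), Functor.Monoidal.toUnit_ε, ← F.map_comp, ← F.map_id, ← Category.assoc,
        Functor.Monoidal.lift_μ, ← F.map_comp, h₁, Functor.map_one]
  refine hom_ext_of_bc j ?_
  show F.map h = F.map 1
  rw [Functor.map_one, ← cancel_epi (Functor.LaxMonoidal.μ F V W), MonObj.comp_one]
  exact e

end Groth.Agent.CurveRigid
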