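import Groth.Agent.CurveRigid.Main
import Groth.Agent.AVLib.MaxAbel
import Groth.Agent.GrpQuotLib.Descend
import Groth.Prelude.Def_Red

/-!
# The rigidity statement over an arbitrary field
-/

set_option autoImplicit false
set_option backward.isDefEq.respectTransparency false
set_option linter.style.haveILetI false

universe u

open CategoryTheory CategoryTheory.Limits AlgebraicGeometry MonoidalCategory CartesianMonoidalCategory
open MonObj GrpObj

noncomputable section

namespace Groth.Agent.CurveRigid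

theorem hom_ext_of_bc {S T : Scheme.{u}} (j : T ⟶ S) [Flat j] [Surjective j] [QuasiCompact j] {X Y : Over S}
    {f g : X ⟶ Y} (h : (Over.pullback j).map f = (Over.pullback j).map g) : f = g := by
  haveI : Flat (pullback.fst X.hom j) := inferInstance
  haveI : Surjective (pullback.fst X.hom j) := MorphismProperty.pullback_fst (P := @Surjective) _ _ ‹_›
  haveI : QuasiCompact (pullback.fst X.hom j) := MorphismProperty.pullback_fst (P := @QuasiCompact) _ _ ‹_›
  haveI := SchDesc.IsFpqc.of_quasiCompact (pullback.fst X.hom j)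
  refine Over.OverMorphism.ext ((cancel_epi (pullback.fst X.hom j)).1 ?_)
  have e := congrArg (fun a => a.left ≫ pullback.fst Y.hom j) h
  simpa only [Over.pullback_map_left, pullback.lift_fst] using e

variable {k : Type u} [Field k]

theorem geometricallyIntegral_prod {V W : Over (Spec (CommRingCat.of k))} [LocallyOfFiniteType V.hom]
    [LocallyOfFiniteType W.hom] [GeometricallyIntegral V.hom] [GeometricallyIntegral W.hom] :
    GeometricallyIntegral (V ⊗ W).hom := by
  haveI : Subsingleton ↥(Spec (CommRingCat.of k)) := inferInstanceAs (Subsingleton (PrimeSpectrum k))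
  haveI : IsIntegral V.left := GeometricallyIntegral.isIntegral_of_subsingleton V.hom
  haveI : UniversallyOpen W.hom := inferInstance
  haveI : Flat (pullback.fst V.hom W.hom) := inferInstance
  haveI : UniversallyOpen (pullback.fst V.hom W.hom) := inferInstance
  haveI : LocallyOfFiniteType (pullback.fst V.hom W.hom) := inferInstance
  haveI : GeometricallyIntegral (pullback.fst V.hom W.hom) := inferInstance
  exact AVLib.geometricallyIntegral_comp (pullback.fst V.hom W.hom) V.hom

/-- The base change map to an algebraic closure. -/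
def jbar (k : Type u) [Field k] : Spec (CommRingCat.of (AlgebraicClosure k)) ⟶ Spec (CommRingCat.of k) :=
  Spec.map (CommRingCat.ofHom (algebraMap k (AlgebraicClosure k)))

/-- Triviality of a map trivial on an axis and, after extension to an algebraic closure, on another one. -/
theorem eq_one_of_bc {V W A : Over (Spec (CommRingCat.of k))}
    [Smooth V.hom] [IsSeparated V.hom] [QuasiCompact V.hom] [GeometricallyIntegral V.hom]
    [Smooth W.hom] [IsSeparated W.hom] [QuasiCompact W.hom] [GeometricallyIntegral W.hom]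
    [GrpObj A] [IsProper A.hom] [GeometricallyIntegral A.hom]
    (v₀ : 𝟙_ _ ⟶ V) (h : V ⊗ W ⟶ A) (h₁ : lift (toUnit W ≫ v₀) (𝟙 W) ≫ h = 1)
    (h₀ : ∃ w : 𝟙_ _ ⟶ (Over.pullback (jbar k)).obj W,
      lift (𝟙 _) (toUnit _ ≫ w) ≫ Functor.LaxMonoidal.μ (Over.pullback (jbar k)) V W ≫
        (Over.pullback (jbar k)).map h = toUnit _ ≫ Functor.LaxMonoidal.ε (Over.pullback (jbar k)) ≫
          (Over.pullback (jbar k)).map η[A]) : h = 1 := by
  let K := AlgebraicClosure k
  let j : Spec (CommRingCat.of K) ⟶ Spec (CommRingCat.of k) := jbar k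
  obtain ⟨w, hw⟩ := h₀
  haveI : Subsingleton ↥(Spec (CommRingCat.of k)) := inferInstanceAs (Subsingleton (PrimeSpectrum k))
  haveI : Subsingleton ↥(Spec (CommRingCat.of K)) := inferInstanceAs (Subsingleton (PrimeSpectrum K))
  haveI : QuasiCompact j := by unfold j jbar; infer_instance
  haveI : Flat j := (HasRingHomProperty.Spec_iff (P := @Flat)).2 (RingHom.flat_algebraMap_iff.2 inferInstance)
  haveI : Surjective j := ⟨fun y => ⟨IsLocalRing.closedPoint K, Subsingleton.elim _ _⟩⟩
  let F := Over.pullback j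
  letI : GrpObj (F.obj A) := Functor.grpObjObj (F := F) (G := A)
  haveI : IsProper (F.obj A).hom := inferInstanceAs (IsProper (pullback.snd A.hom j))
  haveI : GeometricallyIntegral (F.obj A).hom := inferInstanceAs (GeometricallyIntegral (pullback.snd A.hom j))
  haveI : Smooth (F.obj V).hom := inferInstanceAs (Smooth (pullback.snd V.hom j))
  haveI : IsSeparated (F.obj V).hom := inferInstanceAs (IsSeparated (pullback.snd V.hom j))
  haveI : QuasiCompact (F.obj V).hom := inferInstanceAs (QuasiCompact (pullback.snd V.hom j))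
  haveI : Smooth (F.obj W).hom := inferInstanceAs (Smooth (pullback.snd W.hom j))
  haveI : IsSeparated (F.obj W).hom := inferInstanceAs (IsSeparated (pullback.snd W.hom j))
  haveI : QuasiCompact (F.obj W).hom := inferInstanceAs (QuasiCompact (pullback.snd W.hom j))
  haveI : GeometricallyIntegral (F.obj V).hom := inferInstanceAs (GeometricallyIntegral (pullback.snd V.hom j))
  haveI : GeometricallyIntegral (F.obj W).hom := inferInstanceAs (GeometricallyIntegral (pullback.snd W.hom j))
  haveI : IsIntegral (F.obj V).left := GeometricallyIntegral.isIntegral_of_subsingleton (F.obj V).hom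
  haveI : IsIntegral (F.obj W).left := GeometricallyIntegral.isIntegral_of_subsingleton (F.obj W).hom
  let hb := Functor.LaxMonoidal.μ F V W ≫ F.map h
  have e : hb = 1 := by
    refine eq_one_of_axes (Functor.LaxMonoidal.ε F ≫ F.map v₀) w hb ?_ ?_
    · refine hw.trans ?_
      rw [← Category.assoc, Functor.Monoidal.toUnit_ε, ← F.map_comp, ← Hom.one_def, Functor.map_one]
    · rw [← Category.assoc (toUnit _), Functor.Monoidal.toUnit_ε, ← F.map_comp, ← F.map_id, ← Category.assoc,
        Functor.Monoidal.lift_μ, ← F.map_comp, h₁, Functor.map_one]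
  refine hom_ext_of_bc j ?_
  show F.map h = F.map 1
  rw [Functor.map_one, ← cancel_epi (Functor.LaxMonoidal.μ F V W), MonObj.comp_one]
  exact e

theorem eq_one_of_axes' {V W A : Over (Spec (CommRingCat.of k))}
    [Smooth V.hom] [IsSeparated V.hom] [QuasiCompact V.hom] [GeometricallyIntegral V.hom]
    [Smooth W.hom] [IsSeparated W.hom] [QuasiCompact W.hom] [GeometricallyIntegral W.hom]
    [GrpObj A] [IsProper A.hom] [GeometricallyIntegral A.hom]
    (v₀ : 𝟙_ _ ⟶ V) (w₀ : 𝟙_ _ ⟶ W) (h : V ⊗ W ⟶ A)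
    (h₀ : lift (𝟙 V) (toUnit V ≫ w₀) ≫ h = 1) (h₁ : lift (toUnit W ≫ v₀) (𝟙 W) ≫ h = 1) : h = 1 := by
  let F := Over.pullback (jbar k)
  refine eq_one_of_bc v₀ h h₁ ⟨Functor.LaxMonoidal.ε F ≫ F.map w₀, ?_⟩
  rw [← Category.assoc (toUnit _), Functor.Monoidal.toUnit_ε, ← F.map_comp, ← F.map_id, ← Category.assoc,
    Functor.Monoidal.lift_μ, ← F.map_comp, h₀, ← Category.assoc (toUnit _), Functor.Monoidal.toUnit_ε,
    ← F.map_comp, ← Hom.one_def]

/-- A map trivial on an axis factors through the projection to the corresponding factor. -/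
theorem exists_factor_fst {V W A : Over (Spec (CommRingCat.of k))}
    [Smooth V.hom] [IsSeparated V.hom] [QuasiCompact V.hom] [GeometricallyIntegral V.hom]
    [Smooth W.hom] [IsSeparated W.hom] [QuasiCompact W.hom] [GeometricallyIntegral W.hom]
    [GrpObj A] [IsProper A.hom] [GeometricallyIntegral A.hom]
    (v₀ : 𝟙_ _ ⟶ V) (f : V ⊗ W ⟶ A) (h₁ : lift (toUnit W ≫ v₀) (𝟙 W) ≫ f = 1) :
    ∃ f₁ : V ⟶ A, fst V W ≫ f₁ = f := by
  let j := jbar k
  haveI : Subsingleton ↥(Spec (CommRingCat.of k)) := inferInstanceAs (Subsingleton (PrimeSpectrum k))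
  haveI : Subsingleton ↥(Spec (CommRingCat.of (AlgebraicClosure k))) :=
    inferInstanceAs (Subsingleton (PrimeSpectrum (AlgebraicClosure k)))
  haveI : IsIntegral W.left := GeometricallyIntegral.isIntegral_of_subsingleton W.hom
  haveI := smooth_prod (V := W) (W := W)
  haveI := quasiCompact_prod (V := W) (W := W)
  haveI := isSeparated_prod (V := W) (W := W)
  haveI : GeometricallyIntegral (W ⊗ W).hom := by
    haveI : IsLocallyNoetherian W.left := LocallyOfFiniteType.isLocallyNoetherian W.hom
    exact geometricallyIntegral_prod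
  let F := Over.pullback j
  haveI : Smooth (F.obj W).hom := inferInstanceAs (Smooth (pullback.snd W.hom j))
  haveI : GeometricallyIntegral (F.obj W).hom := inferInstanceAs (GeometricallyIntegral (pullback.snd W.hom j))
  haveI : IsIntegral (F.obj W).left := GeometricallyIntegral.isIntegral_of_subsingleton (F.obj W).hom
  haveI := LocallyOfFiniteType.jacobsonSpace (F.obj W).hom
  obtain ⟨z, -, hz⟩ := nonempty_inter_closedPoints (X := (F.obj W).left) (Z := Set.univ)
    Set.univ_nonempty isClosed_univ.isLocallyClosed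
  obtain ⟨p, -⟩ := AVLib.exists_ratPt (Z := F.obj W) hz
  let Δ : W ⟶ W ⊗ W := lift (𝟙 W) (𝟙 W)
  let q : V ⊗ (W ⊗ W) ⟶ A := ((V ◁ fst W W) ≫ f) * ((V ◁ snd W W) ≫ f)⁻¹
  have hq : q = 1 := by
    refine eq_one_of_bc v₀ q ?_ ⟨p ≫ F.map Δ, ?_⟩
    · have e : ∀ t : W ⊗ W ⟶ W,
          lift (toUnit (W ⊗ W) ≫ v₀) (𝟙 (W ⊗ W)) ≫ (V ◁ t) ≫ f = t ≫ lift (toUnit W ≫ v₀) (𝟙 W) ≫ f := fun t => by
        rw [← Category.assoc, ← Category.assoc, lift_whiskerLeft, comp_lift, Category.id_comp, Category.comp_id,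
          ← Category.assoc, toUnit_unique (t ≫ toUnit W) (toUnit (W ⊗ W))]
      simp only [q, MonObj.comp_mul, GrpObj.comp_inv, e, h₁, MonObj.comp_one, mul_inv_cancel]
    · have e1 : (V ◁ Δ) ≫ q = 1 := by
        have e : ∀ t : W ⊗ W ⟶ W, Δ ≫ t = 𝟙 W → (V ◁ Δ) ≫ (V ◁ t) ≫ f = f := fun t ht => by
          rw [← Category.assoc, ← MonoidalCategory.whiskerLeft_comp, ht, MonoidalCategory.whiskerLeft_id,
            Category.id_comp]
        simp only [q, MonObj.comp_mul, GrpObj.comp_inv]
        rw [e _ (lift_fst _ _), e _ (lift_snd _ _), mul_inv_cancel]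
      rw [show lift (𝟙 (F.obj V)) (toUnit (F.obj V) ≫ p ≫ F.map Δ) =
          lift (𝟙 (F.obj V)) (toUnit (F.obj V) ≫ p) ≫ (F.obj V ◁ F.map Δ) by
        rw [lift_whiskerLeft, Category.assoc]]
      rw [Category.assoc, Functor.LaxMonoidal.μ_natural_right_assoc, ← F.map_comp, e1]
      letI : GrpObj (F.obj A) := Functor.grpObjObj (F := F) (G := A)
      rw [Functor.map_one, MonObj.comp_one, MonObj.comp_one, ← Category.assoc (toUnit _),
        Functor.Monoidal.toUnit_ε, ← Functor.map_comp, ← Hom.one_def]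
      exact (Functor.map_one F).symm
  haveI : Flat (fst V W).left := inferInstanceAs (Flat (pullback.fst V.hom W.hom))
  haveI : Surjective W.hom := ⟨fun y => ⟨genericPoint W.left, Subsingleton.elim _ _⟩⟩
  haveI : Surjective (fst V W).left := MorphismProperty.pullback_fst (P := @Surjective) V.hom W.hom ‹_›
  haveI : QuasiCompact (fst V W).left := MorphismProperty.pullback_fst (P := @QuasiCompact) V.hom W.hom inferInstance
  haveI := SchDesc.IsFpqc.of_quasiCompact (fst V W).left
  refine GrpQuotLib.exists_desc (fst V W) f fun T a b e => ?_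
  have := congrArg (lift (a ≫ fst V W) (lift (a ≫ snd V W) (b ≫ snd V W)) ≫ ·) hq
  simp only [q, MonObj.comp_mul, GrpObj.comp_inv, lift_whiskerLeft_assoc, lift_fst, lift_snd, MonObj.comp_one] at this
  rw [lift_comp_fst_snd, e, lift_comp_fst_snd, mul_inv_eq_one] at this
  exact this

/-- Decomposition of a map from a product of smooth varieties to an abelian variety. -/
theorem decomp {V W A : Over (Spec (CommRingCat.of k))}
    [Smooth V.hom] [IsSeparated V.hom] [QuasiCompact V.hom] [GeometricallyIntegral V.hom]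
    [Smooth W.hom] [IsSeparated W.hom] [QuasiCompact W.hom] [GeometricallyIntegral W.hom]
    [GrpObj A] [IsProper A.hom] [GeometricallyIntegral A.hom]
    (v₀ : 𝟙_ _ ⟶ V) (w₀ : 𝟙_ _ ⟶ W) (f : V ⊗ W ⟶ A) :
    f = (toUnit (V ⊗ W) ≫ lift v₀ w₀ ≫ f)⁻¹ * (snd V W ≫ lift (toUnit W ≫ v₀) (𝟙 W) ≫ f) *
      (fst V W ≫ lift (𝟙 V) (toUnit V ≫ w₀) ≫ f) := by
  haveI := isCommMonObj_of_isProper_of_geometricallyIntegral A
  letI : CommGroup (V ⊗ W ⟶ A) := Hom.commGroup
  set a : V ⊗ W ⟶ A := toUnit (V ⊗ W) ≫ lift v₀ w₀ ≫ f with ha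
  set b : V ⊗ W ⟶ A := snd V W ≫ lift (toUnit W ≫ v₀) (𝟙 W) ≫ f with hb
  set c : V ⊗ W ⟶ A := fst V W ≫ lift (𝟙 V) (toUnit V ≫ w₀) ≫ f with hc
  have key : f * (a⁻¹ * b * c)⁻¹ = 1 := by
    refine eq_one_of_axes' v₀ w₀ _ ?_ ?_
    · simp only [ha, hb, hc, MonObj.comp_mul, GrpObj.comp_inv]
      simp only [← Category.assoc, comp_lift, lift_fst, lift_snd, Category.comp_id]
      simp only [toUnit_unique (lift (𝟙 V) (toUnit V ≫ w₀) ≫ toUnit (V ⊗ W)) (toUnit V),
        toUnit_unique ((toUnit V ≫ w₀) ≫ toUnit W) (toUnit V), Category.id_comp]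
      rw [inv_mul_cancel, _root_.one_mul, mul_inv_cancel]
    · simp only [ha, hb, hc, MonObj.comp_mul, GrpObj.comp_inv]
      simp only [← Category.assoc, comp_lift, lift_fst, lift_snd, Category.comp_id]
      simp only [toUnit_unique (lift (toUnit W ≫ v₀) (𝟙 W) ≫ toUnit (V ⊗ W)) (toUnit W),
        toUnit_unique ((toUnit W ≫ v₀) ≫ toUnit V) (toUnit W), Category.id_comp]
      rw [inv_mul_cancel_comm, mul_inv_cancel]
  exact mul_inv_eq_one.1 key

end Groth.Agent.CurveRigid
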