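import Groth.Agent.CurveRigid.Descent
import Groth.Agent.WittHomLib.Torus
import Mathlib.AlgebraicGeometry.AffineSpace

/-!
# Maps from affine spaces to abelian varieties are constant
-/

set_option autoImplicit false
set_option backward.isDefEq.respectTransparency false
set_option linter.style.haveILetI false

universe u

open CategoryTheory CategoryTheory.Limits AlgebraicGeometry MonoidalCategory CartesianMonoidalCategory
open MonObj GrpObj

noncomputable section

namespace Groth.Agent.CurveRigid

variable {k : Type u} [Field k]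

/-- Affine space as an object over the field. -/
abbrev affO (k : Type u) [Field k] (n : Type u) : Over (Spec (CommRingCat.of k)) :=
  Over.mk (𝔸(n; Spec (CommRingCat.of k)) ↘ Spec (CommRingCat.of k))

/-- A morphism to affine space from its coordinates. -/
def ofVec {n : Type u} {T : Over (Spec (CommRingCat.of k))} (v : n → Γ(T.left, ⊤)) : T ⟶ affO k n :=
  Over.homMk (AffineSpace.homOfVector T.hom v) (AffineSpace.homOfVector_over _ _)

theorem ofVec_coord {n : Type u} {T : Over (Spec (CommRingCat.of k))} (v : n → Γ(T.left, ⊤)) (i : n) :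
    (ofVec v).left.appTop (AffineSpace.coord (Spec (CommRingCat.of k)) i) = v i :=
  AffineSpace.homOfVector_appTop_coord _ _ i

theorem affO_ext {n : Type u} {T : Over (Spec (CommRingCat.of k))} {f g : T ⟶ affO k n}
    (h : ∀ i, f.left.appTop (AffineSpace.coord (Spec (CommRingCat.of k)) i) =
      g.left.appTop (AffineSpace.coord (Spec (CommRingCat.of k)) i)) : f = g :=
  Over.OverMorphism.ext (AffineSpace.hom_ext ((Over.w f).trans (Over.w g).symm) h)

theorem comp_ofVec {n : Type u} {T T' : Over (Spec (CommRingCat.of k))} (g : T' ⟶ T) (v : n → Γ(T.left, ⊤)) :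
    g ≫ ofVec v = ofVec fun i => g.left.appTop (v i) := by
  refine affO_ext fun i => ?_
  rw [ofVec_coord, Over.comp_left, Scheme.Hom.comp_appTop, CommRingCat.comp_apply, ofVec_coord]

/-- Every morphism from affine space to an abelian variety is constant. -/
theorem affineSpace_const {A : Over (Spec (CommRingCat.of k))} [GrpObj A] [IsProper A.hom]
    [GeometricallyIntegral A.hom] (n : Type u) [Finite n] (f : affO k n ⟶ A) :
    ∃ a : 𝟙_ (Over (Spec (CommRingCat.of k))) ⟶ A, f = toUnit _ ≫ a := by
  let E := affO k n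
  let L := affO k PUnit.{u + 1}
  haveI : Smooth E.hom := WittHomLib.smooth_affineSpace n _
  haveI : Smooth L.hom := WittHomLib.smooth_affineSpace PUnit _
  haveI : GeometricallyIntegral E.hom :=
    inferInstanceAs (GeometricallyIntegral (𝔸(n; Spec (CommRingCat.of k)) ↘ Spec (CommRingCat.of k)))
  haveI : GeometricallyIntegral L.hom :=
    inferInstanceAs (GeometricallyIntegral (𝔸(PUnit.{u + 1}; Spec (CommRingCat.of k)) ↘ Spec (CommRingCat.of k)))
  haveI : IsAffineHom E.hom :=
    inferInstanceAs (IsAffineHom (𝔸(n; Spec (CommRingCat.of k)) ↘ Spec (CommRingCat.of k)))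
  haveI : IsAffineHom L.hom :=
    inferInstanceAs (IsAffineHom (𝔸(PUnit.{u + 1}; Spec (CommRingCat.of k)) ↘ Spec (CommRingCat.of k)))
  let c : ∀ i : n, Γ(E.left, ⊤) := fun i => AffineSpace.coord (Spec (CommRingCat.of k)) i
  let t : Γ(L.left, ⊤) := AffineSpace.coord (Spec (CommRingCat.of k)) PUnit.unit
  let m : E ⊗ L ⟶ E := ofVec fun i => (fst E L).left.appTop (c i) * (snd E L).left.appTop t
  have hm : ∀ {T : Over (Spec (CommRingCat.of k))} (a : T ⟶ E) (b : T ⟶ L),
      lift a b ≫ m = ofVec fun i => a.left.appTop (c i) * b.left.appTop t := by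
    intro T a b
    rw [comp_ofVec]
    congr 1
    funext i
    rw [map_mul]
    congr 1
    · exact congr(($(lift_fst a b)).left.appTop (c i))
    · exact congr(($(lift_snd a b)).left.appTop t)
  let o : 𝟙_ (Over (Spec (CommRingCat.of k))) ⟶ E := ofVec 0
  let z : 𝟙_ (Over (Spec (CommRingCat.of k))) ⟶ L := ofVec 0
  let one : 𝟙_ (Over (Spec (CommRingCat.of k))) ⟶ L := ofVec 1
  have h0 : lift o z ≫ m = o := by
    rw [hm]
    congr 1
    funext i
    rw [ofVec_coord, Pi.zero_apply, zero_mul]
  have hE : ∀ p : 𝟙_ (Over (Spec (CommRingCat.of k))) ⟶ L,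
      lift (𝟙 E) (toUnit E ≫ p) ≫ m = ofVec fun i => c i * (toUnit E).left.appTop (p.left.appTop t) := fun p => by
    rw [hm]
    congr 1
  have hEz : lift (𝟙 E) (toUnit E ≫ z) ≫ m = toUnit E ≫ o := by
    rw [hE, comp_ofVec]
    congr 1
    funext i
    rw [ofVec_coord, Pi.zero_apply, Pi.zero_apply, map_zero, mul_zero]
  have hLo : lift (toUnit L ≫ o) (𝟙 L) ≫ m = toUnit L ≫ o := by
    rw [hm, comp_ofVec]
    congr 1
    funext i
    rw [ofVec_coord, Pi.zero_apply, map_zero, zero_mul]
  have h1 : lift (𝟙 E) (toUnit E ≫ one) ≫ m = 𝟙 E := by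
    rw [hE]
    refine affO_ext fun i => ?_
    rw [ofVec_coord, ofVec_coord, Pi.one_apply, map_one, _root_.mul_one]
    rfl
  have hd := decomp o z (m ≫ f)
  rw [← Category.assoc (lift o z), h0, ← Category.assoc (lift (toUnit L ≫ o) (𝟙 L)), hLo,
    ← Category.assoc (lift (𝟙 E) (toUnit E ≫ z)), hEz] at hd
  refine ⟨o ≫ f, ?_⟩
  have h := congrArg (lift (𝟙 E) (toUnit E ≫ one) ≫ ·) hd
  rw [← Category.assoc, h1, Category.id_comp] at h
  simp only [MonObj.comp_mul, GrpObj.comp_inv, Category.assoc] at h
  simp only [← Category.assoc] at h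
  simp only [toUnit_unique (lift (𝟙 E) (toUnit E ≫ one) ≫ toUnit (E ⊗ L)) (toUnit E),
    toUnit_unique ((lift (𝟙 E) (toUnit E ≫ one) ≫ snd E L) ≫ toUnit L) (toUnit E),
    toUnit_unique ((lift (𝟙 E) (toUnit E ≫ one) ≫ fst E L) ≫ toUnit E) (toUnit E), inv_mul_cancel,
    _root_.one_mul, Category.assoc] at h
  exact h

end Groth.Agent.CurveRigid
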