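import Groth.Agent.NormalSch.CurveVal
import Groth.Agent.CompleteCurve.Field
import Groth.Agent.CurveFF.SmoothReg
import Groth.Agent.DimFormulaLib.Field
import Groth.Agent.DVRCrit.Scheme
import Mathlib.RingTheory.Valuation.LocalSubring

/-!
# Smooth complete curves through a point of a variety, avoiding a proper closed subset
-/

set_option autoImplicit false
set_option backward.isDefEq.respectTransparency false
set_option backward.defeqAttrib.useBackward true
set_option linter.style.haveILetI false

universe u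

open CategoryTheory AlgebraicGeometry TopologicalSpace Opposite IsLocalRing
open Groth.Agent.DimFormulaLib

noncomputable section

namespace Groth.Agent.CurveRigid

/-- In a Noetherian local domain of dimension at least two some intermediate prime avoids a given
nonzero element. -/
theorem exists_prime_avoiding {A : Type u} [CommRing A] [IsDomain A] [IsNoetherianRing A] [IsLocalRing A]
    (Q₀ : Ideal A) [Q₀.IsPrime] (h0 : Q₀ ≠ ⊥) (hm : Q₀ ≠ maximalIdeal A) (f : A) (hf : f ≠ 0) :
    ∃ Q : Ideal A, Q.IsPrime ∧ Q ≠ ⊥ ∧ Q ≠ maximalIdeal A ∧ f ∉ Q := by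
  classical
  by_cases hu : f ∈ maximalIdeal A
  swap
  · exact ⟨Q₀, inferInstance, h0, hm, fun h => hu (le_maximalIdeal (Ideal.IsPrime.ne_top inferInstance) h)⟩
  have hle : Q₀ ≤ maximalIdeal A := le_maximalIdeal (Ideal.IsPrime.ne_top inferInstance)
  have h2 : ¬ (maximalIdeal A).height ≤ 1 := by
    intro h
    haveI : Q₀.FiniteHeight := Ideal.finiteHeight_of_isNoetherianRing _
    have h1 : Q₀.height < (maximalIdeal A).height :=
      Ideal.height_strict_mono_of_isPrime (lt_of_le_of_ne hle hm)
    have h0' : (⊥ : Ideal A).height < Q₀.height := by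
      haveI : (⊥ : Ideal A).IsPrime := Ideal.bot_prime
      haveI : (⊥ : Ideal A).FiniteHeight := Ideal.finiteHeight_of_isNoetherianRing _
      exact Ideal.height_strict_mono_of_isPrime (bot_lt_iff_ne_bot.2 h0)
    have := lt_of_lt_of_le h1 h
    have hlt : (⊥ : Ideal A).height < 0 := by
      rw [ENat.lt_one_iff_eq_zero.1 this] at h0'
      exact h0'
    exact not_lt_bot hlt
  have hfin : ((Ideal.span {f}).minimalPrimes).Finite := (Ideal.span {f}).finite_minimalPrimes_of_isNoetherianRing
  obtain ⟨g, hgm, hg⟩ : ∃ g ∈ maximalIdeal A, ∀ q ∈ (Ideal.span {f}).minimalPrimes, g ∉ q := by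
    by_contra hcon
    simp only [not_exists, not_and, not_forall, not_not] at hcon
    have hsub : (maximalIdeal A : Set A) ⊆ ⋃ q ∈ (hfin.toFinset : Set (Ideal A)), (q : Set A) := fun g hg => by
      obtain ⟨q, hq, hgq⟩ := hcon g hg
      exact Set.mem_biUnion (by simpa using hq) hgq
    obtain ⟨q, hq, hqm⟩ := (Ideal.subset_union_prime ⊥ ⊥ (fun q hq _ _ => ((Set.Finite.mem_toFinset hfin).1 hq).1.1)).1 hsub
    have hq' := (Set.Finite.mem_toFinset hfin).1 hq
    haveI := hq'.1.1
    have e : q = maximalIdeal A := le_antisymm (le_maximalIdeal hq'.1.1.ne_top) hqm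
    exact h2 (e ▸ Ideal.height_le_one_of_isPrincipal_of_mem_minimalPrimes _ q hq')
  obtain ⟨Q, hQ, hQle⟩ := Ideal.exists_minimalPrimes_le (J := maximalIdeal A) (I := Ideal.span {g})
    ((Ideal.span_singleton_le_iff_mem _).2 hgm)
  haveI := hQ.1.1
  have hQh : Q.height ≤ 1 := Ideal.height_le_one_of_isPrincipal_of_mem_minimalPrimes _ Q hQ
  have hgQ : g ∈ Q := hQ.1.2 (Ideal.mem_span_singleton_self g)
  have hqbot : ∀ q ∈ (Ideal.span {f}).minimalPrimes, q ≠ ⊥ := fun q hq e => hf (by
    simpa [e] using hq.1.2 (Ideal.mem_span_singleton_self f))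
  have hg0 : g ≠ 0 := fun e => by
    obtain ⟨q, hq, -⟩ := Ideal.exists_minimalPrimes_le (J := maximalIdeal A) (I := Ideal.span {f})
      ((Ideal.span_singleton_le_iff_mem _).2 hu)
    exact hg q hq (e ▸ q.zero_mem)
  refine ⟨Q, inferInstance, fun e => hg0 (by simpa [e] using hgQ), fun e => h2 (e ▸ hQh), fun hfQ => ?_⟩
  obtain ⟨q, hq, hqQ⟩ := Ideal.exists_minimalPrimes_le (J := Q) ((Ideal.span_singleton_le_iff_mem _).2 hfQ)
  haveI := hq.1.1
  rcases eq_or_lt_of_le hqQ with e | hlt
  · exact hg q hq (e ▸ hgQ)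
  · haveI : q.FiniteHeight := Ideal.finiteHeight_of_isNoetherianRing _
    have h1 := lt_of_lt_of_le (Ideal.height_strict_mono_of_isPrime hlt) hQh
    haveI : (⊥ : Ideal A).IsPrime := Ideal.bot_prime
    haveI : (⊥ : Ideal A).FiniteHeight := Ideal.finiteHeight_of_isNoetherianRing _
    have h3 := Ideal.height_strict_mono_of_isPrime (bot_lt_iff_ne_bot.2 (hqbot q hq))
    rw [ENat.lt_one_iff_eq_zero.1 h1] at h3
    exact not_lt_bot h3

variable {k : Type u} [Field k] {W : Scheme.{u}} [W.Over (Spec (CommRingCat.of k))]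

attribute [local instance] Curv2.resAlgebra

/-- A point of residual transcendence degree one specializing to a given closed point and lying outside
a given proper closed subset. -/
theorem exists_point_dim_one [IsIntegral W] [LocallyOfFiniteType (W ↘ Spec (CommRingCat.of k))] (w : W)
    (hw : IsClosed ({w} : Set W)) (F : Set W) (hF : IsClosed F) (hwF : w ∈ F) (hne : F ≠ Set.univ) :
    ∃ x : W, x ⤳ w ∧ x ∉ F ∧ Algebra.trdeg k (W.residueField x) = 1 := by
  classical
  haveI : IsLocallyNoetherian W := LocallyOfFiniteType.isLocallyNoetherian (W ↘ Spec (CommRingCat.of k))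
  let R := W.presheaf.stalk w
  let j := W.fromSpecStalk w
  have hj : Function.Injective j := (W.fromSpecStalk w).isEmbedding.injective
  have hη : genericPoint W ∉ F := fun h => hne (Set.eq_univ_of_forall fun z =>
    ((genericPoint_spec W).specializes (Set.mem_univ z)).mem_closed hF h)
  obtain ⟨J, hJ⟩ := (PrimeSpectrum.isClosed_iff_zeroLocus_ideal _).1 (hF.preimage j.continuous)
  obtain ⟨η₀, hη₀⟩ : genericPoint W ∈ Set.range j := by
    rw [Scheme.range_fromSpecStalk]
    exact (genericPoint_spec W).specializes (Set.mem_univ w)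
  have hJ0 : J ≠ ⊥ := fun h => by
    have h1 : η₀ ∉ j ⁻¹' F := fun h' => hη (hη₀ ▸ h')
    rw [hJ, h] at h1
    simp at h1
  obtain ⟨f, hfJ, hf0⟩ := J.ne_bot_iff.1 hJ0
  have hFf : ∀ p : Spec R, j p ∈ F → f ∈ p.asIdeal := fun p hp => by
    have : p ∈ j ⁻¹' F := hp
    rw [hJ] at this
    exact this hfJ
  have hjm : j (closedPoint R) = w := Scheme.fromSpecStalk_closedPoint
  -- a maximal prime avoiding `f`
  let S : Set (Ideal R) := {P | P.IsPrime ∧ P ≠ maximalIdeal R ∧ f ∉ P}
  have hfm : f ∈ maximalIdeal R := hFf (closedPoint R) (by rw [hjm]; exact hwF)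
  have hS : S.Nonempty := ⟨⊥, Ideal.bot_prime, fun e => hf0 (by simpa [← e] using hfm), fun h => hf0 (by simpa using h)⟩
  obtain ⟨P, hP, hmax⟩ := set_has_maximal_iff_noetherian.2 (inferInstanceAs (IsNoetherian R R)) S hS
  obtain ⟨hPp, hPm, hfP⟩ := hP
  let x := j ⟨P, hPp⟩
  have hxw : x ⤳ w := by
    have : (⟨P, hPp⟩ : PrimeSpectrum R) ⤳ closedPoint R :=
      (PrimeSpectrum.le_iff_specializes _ _).1 (le_maximalIdeal hPp.ne_top)
    exact hjm ▸ this.map j.continuous
  have hne' : x ≠ w := fun e => hPm (congrArg PrimeSpectrum.asIdeal (hj (e.trans hjm.symm)))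
  refine ⟨x, hxw, fun h => hfP (hFf _ h), ?_⟩
  have himm : ∀ y : W, x ⤳ y → y ⤳ w → y = x ∨ y = w := by
    intro y h1 h2
    obtain ⟨q, rfl⟩ : y ∈ Set.range j := by rw [Scheme.range_fromSpecStalk]; exact h2
    by_contra hcon
    rw [not_or] at hcon
    have hle : (⟨P, hPp⟩ : PrimeSpectrum R) ≤ q :=
      (PrimeSpectrum.le_iff_specializes _ _).2 ((W.fromSpecStalk w).isEmbedding.isInducing.specializes_iff.1 h1)
    have hqP : q.asIdeal ≠ P := fun e => hcon.1 (congrArg j (PrimeSpectrum.ext e))
    have hqm : q.asIdeal ≠ maximalIdeal R := fun e => hcon.2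
      ((congrArg j (PrimeSpectrum.ext e : q = closedPoint R)).trans hjm)
    haveI := hPp
    haveI : Nontrivial (R ⧸ P) := Ideal.Quotient.nontrivial_iff.2 hPp.ne_top
    haveI : IsLocalRing (R ⧸ P) := .of_surjective' (Ideal.Quotient.mk P) Ideal.Quotient.mk_surjective
    let Q₀ := q.asIdeal.map (Ideal.Quotient.mk P)
    have hc₀ : Q₀.comap (Ideal.Quotient.mk P) = q.asIdeal := by
      rw [Ideal.comap_map_of_surjective _ Ideal.Quotient.mk_surjective, ← RingHom.ker_eq_comap_bot, Ideal.mk_ker]
      exact sup_eq_left.2 hle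
    haveI : Q₀.IsPrime := Ideal.map_isPrime_of_surjective Ideal.Quotient.mk_surjective (by rw [Ideal.mk_ker]; exact hle)
    haveI : IsLocalHom (Ideal.Quotient.mk P) := IsLocalHom.of_surjective _ Ideal.Quotient.mk_surjective
    have hcm : (maximalIdeal (R ⧸ P)).comap (Ideal.Quotient.mk P) = maximalIdeal R :=
      IsLocalRing.maximalIdeal_comap _
    obtain ⟨Q, hQp, hQ0, hQm, hfQ⟩ := exists_prime_avoiding Q₀
      (fun e => hqP (by rw [← hc₀, e, ← RingHom.ker_eq_comap_bot, Ideal.mk_ker]))
      (fun e => hqm (by rw [← hc₀, e, hcm])) (Ideal.Quotient.mk P f)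
      (fun e => hfP (Ideal.Quotient.eq_zero_iff_mem.1 e))
    haveI := hQp
    refine hmax (Q.comap (Ideal.Quotient.mk P)) ⟨inferInstance, fun e => hQm ?_, hfQ⟩ ?_
    · rw [← Ideal.map_comap_of_surjective _ Ideal.Quotient.mk_surjective Q, e, ← hcm,
        Ideal.map_comap_of_surjective _ Ideal.Quotient.mk_surjective]
    · refine lt_of_le_of_ne (fun a ha => by simp [Ideal.Quotient.eq_zero_iff_mem.2 ha]) fun e => hQ0 ?_
      rw [← Ideal.map_comap_of_surjective _ Ideal.Quotient.mk_surjective Q, ← e, Ideal.map_quotient_self]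
  have h0 : resTrdegAt (W ↘ Spec (CommRingCat.of k)) w = (0 : ℕ) := by
    obtain ⟨a, t, -, ht, -, hh⟩ := field_dims (W ↘ Spec (CommRingCat.of k)) w
    have : Order.height w = 0 := by
      refine Order.height_eq_zero.2 fun z hz => ?_
      have h' : w ⤳ z := hz
      exact (Set.mem_singleton_iff.1 (h'.mem_closed hw rfl)).symm ▸ le_rfl
    rw [ht]
    have : (t : ℕ∞) = 0 := hh.symm.trans this
    exact_mod_cast this
  have h1 := trdeg_immediate (W ↘ Spec (CommRingCat.of k)) x w hne' hxw himm 0 h0
  rw [resTrdegAt_over] at h1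
  simpa using h1

attribute [local instance] Curv2.stalkAlgebra

/-- A smooth complete curve, with its dimension, and a rational map to `W` through a given closed point that leaves a given
proper closed subset. -/
theorem exists_curve' [IsAlgClosed k] [IsIntegral W] [LocallyOfFiniteType (W ↘ Spec (CommRingCat.of k))] (w : W)
    (hw : IsClosed ({w} : Set W)) (F : Set W) (hF : IsClosed F) (hwF : w ∈ F) (hne : F ≠ Set.univ) :
    ∃ (C : Scheme.{u}) (_ : C.Over (Spec (CommRingCat.of k))) (_ : IsIntegral C),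
      (∀ x : C, IsClosed ({x} : Set C) → ringKrullDim (C.presheaf.stalk x) = 1) ∧
      IsProper (C ↘ Spec (CommRingCat.of k)) ∧ Smooth (C ↘ Spec (CommRingCat.of k)) ∧
      ∃ (U : C.Opens) (φ : (U : Scheme.{u}) ⟶ W) (c z : U),
        φ ≫ (W ↘ Spec (CommRingCat.of k)) = U.ι ≫ (C ↘ Spec (CommRingCat.of k)) ∧
        IsClosed ({c.1} : Set C) ∧ φ c = w ∧ φ z ∉ F := by
  obtain ⟨x, hxw, hxF, htr⟩ := exists_point_dim_one (k := k) w hw F hF hwF hne
  set sW := W ↘ Spec (CommRingCat.of k)
  have hfg : (⊤ : IntermediateField k (W.residueField x)).FG := by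
    letI := (sW.residueFieldMap x).hom.toAlgebra
    let ψ : k →+* (Spec (CommRingCat.of k)).residueField (sW x) :=
      ((Spec (CommRingCat.of k)).Γevaluation (sW x)).hom.comp (Scheme.ΓSpecIso (CommRingCat.of k)).inv.hom
    letI := ψ.toAlgebra
    haveI : IsScalarTower k ((Spec (CommRingCat.of k)).residueField (sW x)) (W.residueField x) :=
      .of_algebraMap_eq fun r => (Scheme.Γevaluation_naturality_apply sW x _).symm
    haveI : Module.Finite k ((Spec (CommRingCat.of k)).residueField (sW x)) :=
      Module.Finite.of_surjective (Algebra.linearMap k _) (evaluation_surjective k (sW x))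
    haveI : Algebra.EssFiniteType ((Spec (CommRingCat.of k)).residueField (sW x)) (W.residueField x) :=
      IntermediateField.fg_top_iff.1 (DVRCrit.fg_residueField sW x)
    exact IntermediateField.fg_top_iff.2 (Algebra.EssFiniteType.comp k ((Spec (CommRingCat.of k)).residueField (sW x)) _)
  obtain ⟨C, hCo, hCi, hCp, hCn, hCd, e, he⟩ := CompleteCurve.exists_normal_complete_curve k (W.residueField x) hfg htr
  letI := hCo
  haveI := hCi
  haveI := hCp
  set sC := C ↘ Spec (CommRingCat.of k)
  -- the map to the function field of the curve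
  let θ : W.presheaf.stalk w →+* C.functionField :=
    e.symm.toRingHom.comp (W.presheaf.stalkSpecializes hxw ≫ W.residue x).hom
  have hθk : ∀ r : k, θ (Curv2.stalkMap k W w r) = algebraMap k C.functionField r := fun r => by
    have h1 : (W.presheaf.stalkSpecializes hxw).hom (Curv2.stalkMap k W w r) = Curv2.stalkMap k W x r :=
      congr($(W.presheaf.germ_stalkSpecializes (U := ⊤) trivial hxw) (Coh.toGlobal sW r))
    exact e.symm_apply_eq.2 ((congrArg (fun a => W.residue x a) h1).trans (he r).symm)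
  obtain ⟨A, hA, hAl⟩ := IsLocalRing.exists_factor_valuationRing θ
  have hne' : x ≠ w := fun h => hxF (h ▸ hwF)
  have hA_top : A ≠ ⊤ := by
    intro htop
    obtain ⟨P, hP⟩ : x ∈ Set.range (W.fromSpecStalk w) := by rw [Scheme.range_fromSpecStalk]; exact hxw
    obtain ⟨a, ham, haθ⟩ : ∃ a ∈ maximalIdeal (W.presheaf.stalk w), θ a ≠ 0 := by
      by_contra hcon
      simp only [not_exists, not_and, not_not] at hcon
      refine hne' ?_
      have hall : Spec.map (W.presheaf.stalkSpecializes hxw ≫ W.residue x) (closedPoint (W.residueField x)) =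
          closedPoint (W.presheaf.stalk w) := by
        refine PrimeSpectrum.ext ?_
        refine (IsLocalRing.eq_maximalIdeal ⟨Ideal.IsPrime.ne_top inferInstance, fun J hJ => ?_⟩)
        by_contra hJtop
        refine hJ.not_ge (le_trans (le_maximalIdeal hJtop) fun a ha => ?_)
        show (W.presheaf.stalkSpecializes hxw ≫ W.residue x).hom a ∈ maximalIdeal (W.residueField x)
        have h0 := hcon a ha
        rw [show θ a = e.symm ((W.presheaf.stalkSpecializes hxw ≫ W.residue x).hom a) from rfl,
          EmbeddingLike.map_eq_zero_iff] at h0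
        rw [h0]
        exact Ideal.zero_mem _
      have h1 := congrArg (fun q => W.fromSpecStalk w q) hall
      simp only [← Scheme.Hom.comp_apply, Scheme.fromSpecStalk_closedPoint] at h1
      rw [Spec.map_comp, Category.assoc, Scheme.SpecMap_stalkSpecializes_fromSpecStalk] at h1
      exact ((Scheme.fromSpecResidueField_apply x _).symm.trans h1)
    have hnu : ¬ IsUnit (θ.codRestrict A.toSubring hA a) := fun h =>
      (IsLocalRing.mem_maximalIdeal a).1 ham (hAl.map_nonunit a h)
    refine hnu (isUnit_iff_exists_inv.2 ⟨⟨(θ a)⁻¹, htop ▸ trivial⟩, Subtype.ext ?_⟩)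
    exact mul_inv_cancel₀ haθ
  obtain ⟨c, hc, -⟩ := NormalSch.existsUnique_centre k hCd hCn A hA_top (fun r => hθk r ▸ hA _)
  have hcη : c ≠ genericPoint C := by
    intro h
    refine hA_top (eq_top_iff.mpr fun a _ => ?_)
    show a ∈ (A : Set C.functionField)
    rw [hc]
    subst h
    exact ⟨a, congr($(TopCat.Presheaf.stalkSpecializes_refl C.presheaf (genericPoint C)) a)⟩
  haveI : IsDiscreteValuationRing (C.presheaf.stalk c) := NormalSch.isDVR_of_ne_generic k hCd hCn hcη
  have hinj : Function.Injective (algebraMap (C.presheaf.stalk c) C.functionField) := IsFractionRing.injective _ _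
  choose g hg using fun a : W.presheaf.stalk w =>
    (show θ a ∈ Set.range (algebraMap (C.presheaf.stalk c) C.functionField) from hc ▸ hA a)
  let γ : W.presheaf.stalk w →+* C.presheaf.stalk c :=
    { toFun := g
      map_one' := hinj (by rw [hg, map_one, map_one])
      map_mul' := fun a b => hinj (by rw [hg, map_mul, map_mul, hg, hg])
      map_zero' := hinj (by rw [hg, map_zero, map_zero])
      map_add' := fun a b => hinj (by rw [hg, map_add, map_add, hg, hg]) }
  haveI : IsLocalHom γ := ⟨fun a ha => hAl.map_nonunit a (by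
    obtain ⟨b, hb⟩ := isUnit_iff_exists_inv.1 ha
    have hbA : algebraMap (C.presheaf.stalk c) C.functionField b ∈ A := by
      show _ ∈ (A : Set C.functionField)
      rw [hc]; exact ⟨b, rfl⟩
    refine isUnit_iff_exists_inv.2 ⟨⟨_, hbA⟩, Subtype.ext ?_⟩
    show θ a * algebraMap (C.presheaf.stalk c) C.functionField b = 1
    rw [← hg a, ← map_mul]
    exact (congrArg _ hb).trans (map_one _))⟩
  let τ : Spec (C.presheaf.stalk c) ⟶ W := Spec.map (CommRingCat.ofHom γ) ≫ W.fromSpecStalk w
  have hτ : τ ≫ sW = C.fromSpecStalk c ≫ sC := by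
    rw [Category.assoc, NormalSch.fromSpecStalk_over, NormalSch.fromSpecStalk_over, ← Spec.map_comp]
    congr 1
    ext r
    refine hinj ?_
    refine (hg _).trans ((hθk r).trans ?_)
    exact congr($(C.presheaf.germ_stalkSpecializes (U := ⊤) trivial ((genericPoint_spec C).specializes trivial : genericPoint C ⤳ c)) (Coh.toGlobal sC r)).symm
  haveI : IsLocallyNoetherian C := LocallyOfFiniteType.isLocallyNoetherian sC
  obtain ⟨U, hcU, φ, hφ, hφs⟩ := spread_out_of_isGermInjective' (sX := sC) (sY := sW) (x := c) τ hτ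
  have hη : genericPoint C ∈ U := ((genericPoint_spec C).specializes trivial).mem_open U.isOpen hcU
  have hcl : IsClosed ({c} : Set C) := by
    by_contra h
    exact hcη ((Groth.Agent.S4443.result k C hCd).1 c h)
  refine ⟨C, hCo, hCi, hCd, hCp, ?_, U, φ, ⟨c, hcU⟩, ⟨genericPoint C, hη⟩, hφs, hcl, ?_, ?_⟩
  · refine CurveFF.smooth_of_regular fun y => ?_
    by_cases hy : y = genericPoint C
    · subst hy
      exact inferInstanceAs (IsRegularLocalRing C.functionField)
    · haveI := NormalSch.isDVR_of_ne_generic k hCd hCn hy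
      infer_instance
  · have h1 : U.fromSpecStalkOfMem c hcU (closedPoint _) = (⟨c, hcU⟩ : U) := by
      apply Subtype.ext
      show U.ι (U.fromSpecStalkOfMem c hcU (closedPoint _)) = c
      rw [← Scheme.Hom.comp_apply, Scheme.Opens.fromSpecStalkOfMem_ι, Scheme.fromSpecStalk_closedPoint]
    rw [← h1, ← Scheme.Hom.comp_apply, ← hφ, Scheme.Hom.comp_apply]
    exact (congrArg (W.fromSpecStalk w) (IsLocalRing.comap_closedPoint γ)).trans Scheme.fromSpecStalk_closedPoint
  · have hsp : genericPoint C ⤳ c := (genericPoint_spec C).specializes trivial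
    let q : Spec C.functionField ⟶ Spec (C.presheaf.stalk c) := Spec.map (C.presheaf.stalkSpecializes hsp)
    have h1 : U.fromSpecStalkOfMem c hcU (q (closedPoint _)) = (⟨genericPoint C, hη⟩ : U) := by
      apply Subtype.ext
      show U.ι (U.fromSpecStalkOfMem c hcU (q (closedPoint _))) = genericPoint C
      rw [← Scheme.Hom.comp_apply, Scheme.Opens.fromSpecStalkOfMem_ι, ← Scheme.Hom.comp_apply,
        Scheme.SpecMap_stalkSpecializes_fromSpecStalk]
      exact Scheme.fromSpecStalk_closedPoint
    have h2 : q ≫ Spec.map (CommRingCat.ofHom γ) =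
        Spec.map (CommRingCat.ofHom e.symm.toRingHom) ≫ Spec.map (W.presheaf.stalkSpecializes hxw ≫ W.residue x) := by
      rw [← Spec.map_comp, ← Spec.map_comp]
      congr 1
      ext a
      exact hg a
    rw [← h1, ← Scheme.Hom.comp_apply, ← hφ]
    show (Spec.map (CommRingCat.ofHom γ) ≫ W.fromSpecStalk w) (q (closedPoint _)) ∉ F
    have h3 : q ≫ Spec.map (CommRingCat.ofHom γ) ≫ W.fromSpecStalk w =
        Spec.map (CommRingCat.ofHom e.symm.toRingHom) ≫ W.fromSpecResidueField x := by
      rw [← Category.assoc, h2, Category.assoc, Spec.map_comp, Category.assoc,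
        Scheme.SpecMap_stalkSpecializes_fromSpecStalk]
      rfl
    erw [← Scheme.Hom.comp_apply, h3, Scheme.Hom.comp_apply]
    erw [Scheme.fromSpecResidueField_apply]
    exact hxF

/-- A smooth complete curve with a rational map to `W` through a given closed point that leaves a given
proper closed subset. -/
theorem exists_curve [IsAlgClosed k] [IsIntegral W] [LocallyOfFiniteType (W ↘ Spec (CommRingCat.of k))] (w : W)
    (hw : IsClosed ({w} : Set W)) (F : Set W) (hF : IsClosed F) (hwF : w ∈ F) (hne : F ≠ Set.univ) :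
    ∃ (C : Scheme.{u}) (_ : C.Over (Spec (CommRingCat.of k))) (_ : IsIntegral C),
      IsProper (C ↘ Spec (CommRingCat.of k)) ∧ Smooth (C ↘ Spec (CommRingCat.of k)) ∧
      ∃ (U : C.Opens) (φ : (U : Scheme.{u}) ⟶ W) (c z : U),
        φ ≫ (W ↘ Spec (CommRingCat.of k)) = U.ι ≫ (C ↘ Spec (CommRingCat.of k)) ∧
        IsClosed ({c.1} : Set C) ∧ φ c = w ∧ φ z ∉ F := by
  obtain ⟨C, hCo, hCi, -, h⟩ := exists_curve' (k := k) w hw F hF hwF hne
  exact ⟨C, hCo, hCi, h⟩

end Groth.Agent.CurveRigid
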